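import Groth.Agent.Lib.FSecDual7.Depth2
import Groth.Agent.Lib.RegLoc.QuasiRegular
import Groth.Agent.Lib.LC.FiniteH1

/-!
# Modules whose sections on an open are the module itself
-/

set_option autoImplicit false
set_option linter.style.haveILetI false
set_option linter.unusedSectionVars false

universe u

open CategoryTheory AlgebraicGeometry Opposite TopologicalSpace Formal2 GrothLib.ColimSec7 GrothLib.FSecDual7

noncomputable section

namespace GrothLib.PowRestrict7

variable {B : Type u} [CommRing B] [IsNoetherianRing B] (V : (Spec (CommRingCat.of B)).Opens)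

/-- All sections on `V` are global, uniquely. -/
def Good (M : Type u) [AddCommGroup M] [Module B M] : Prop := Function.Bijective (t M V)

variable {V} {M : Type u} [AddCommGroup M] [Module B M] [Module.Finite B M]

theorem good_of_subsingleton [Subsingleton M] : Good V M :=
  ⟨fun a b _ => Subsingleton.elim a b, fun w => ⟨0, section_ext fun q hq => by
    obtain ⟨x, s, hs, hx⟩ := exists_frac q (germ hq w)
    rw [map_zero, map_zero]
    exact (smul_cancel q hs (by rw [hx, Subsingleton.elim x 0, map_zero, smul_zero])).symm⟩⟩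

/-- Depth two off `V` makes a module good. -/
theorem good_of_depth (h : ∀ q : PrimeSpectrum B, q ∉ V → q ∈ Module.support B M →
      (2 : ℕ∞) ≤ LocCoh.depth (Localization.AtPrime q.asIdeal) (LocalizedModule q.asIdeal.primeCompl M)) :
    Good V M := by
  have h' : ∀ q : PrimeSpectrum B, q ∉ V →
      (2 : ℕ∞) ≤ LocCoh.depth (Localization.AtPrime q.asIdeal) (LocalizedModule q.asIdeal.primeCompl M) := by
    intro q hq
    by_cases hs : q ∈ Module.support B M
    · exact h q hq hs
    haveI := Module.notMem_support_iff.1 hs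
    rw [LocCoh.depth, LocCoh.idealDepth, if_pos (Subsingleton.elim _ _)]
    exact le_top
  refine ⟨(injective_iff_map_eq_zero _).2 fun b hb => eq_of_forall_ι (A := B) (N := M) fun q => ?_, fun s => ?_⟩
  · rw [map_zero]
    refine eq_zero_of_assoc q _ fun p hp hass => ?_
    rw [loc_ι]
    by_cases hpV : p ∈ V
    · rw [← germ_t hpV, hb, map_zero]
    · have h2 := h' p hpV
      rw [Faltings.depth_eq_zero_of_mem_associatedPrimes hass] at h2
      exact absurd h2 (by decide)
  · obtain ⟨w, hw⟩ := exists_extension (U := ⊤) (V := V) le_top (fun q _ hq => h' q hq) s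
    obtain ⟨k, m, hm⟩ := exists_pow_smul_eq (a := (1 : B)) (V := ⊤) le_top w
    rw [one_pow, one_smul] at hm
    refine ⟨m, section_ext fun p hp => ?_⟩
    rw [germ_t, ← hw, germ_r, hm, germ_t]

/-- Extensions. -/
theorem good_middle {M' M'' : Type u} [AddCommGroup M'] [Module B M'] [AddCommGroup M''] [Module B M'']
    (f : M' →ₗ[B] M) (g : M →ₗ[B] M'') (hf : Function.Injective f) (hg : Function.Surjective g)
    (hfg : LinearMap.range f = LinearMap.ker g) (h' : Good V M') (h'' : Good V M'') : Good V M := by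
  refine ⟨(injective_iff_map_eq_zero _).2 fun m hm => ?_, fun s => ?_⟩
  · have h1 : g m = 0 := (injective_iff_map_eq_zero _).1 h''.1 _ (by rw [← mp_t, hm, map_zero])
    obtain ⟨m', rfl⟩ := hfg.ge h1
    rw [← mp_t] at hm
    rw [(injective_iff_map_eq_zero _).1 h'.1 m' ((injective_iff_map_eq_zero _).1 (mp_injective f hf V) _ hm), map_zero]
  · obtain ⟨m'', hm''⟩ := h''.2 (mp g V s)
    obtain ⟨m, rfl⟩ := hg m''
    obtain ⟨x, hx⟩ := exists_mp_eq f g hf hfg V (y := s - t M V m) (by rw [map_sub, mp_t, ← hm'', sub_self])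
    obtain ⟨m', rfl⟩ := h'.2 x
    exact ⟨f m' + m, by rw [map_add, ← mp_t, hx, sub_add_cancel]⟩

theorem good_pi (h : Good V M) : ∀ r, Good V (Fin r → M)
  | 0 => good_of_subsingleton
  | r + 1 => good_middle _ _ (LC.FiniteH1.pi_exact r).1 (LC.FiniteH1.pi_exact r).2.1
      (LC.FiniteH1.pi_exact r).2.2.linearMap_ker_eq.symm h (good_pi h r)

theorem good_equiv {N : Type u} [AddCommGroup N] [Module B N] [Module.Finite B N] (e : M ≃ₗ[B] N) (h : Good V N) :
    Good V M :=
  haveI : Subsingleton (N ⧸ (⊤ : Submodule B N)) := Submodule.Quotient.subsingleton_iff.2 rfl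
  good_middle (M' := N) (M'' := N ⧸ (⊤ : Submodule B N)) e.symm.toLinearMap ((⊤ : Submodule B N).mkQ ∘ₗ e.toLinearMap)
    e.symm.injective ((Submodule.mkQ_surjective _).comp e.surjective)
    (by rw [LinearEquiv.range]; exact (LinearMap.ker_eq_top.2 (LinearMap.ext fun _ => Subsingleton.elim _ _)).symm)
    h good_of_subsingleton

/-- The graded pieces being free, goodness of `B ⧸ P` gives it for `B`. -/
theorem good_of_graded (P : Ideal B) (m : ℕ) (hm : P ^ m = ⊥) (h : Good V (B ⧸ P))
    (hfree : ∀ k < m, ∃ (r : ℕ) (e : Fin r → B), Ideal.span (Set.range e) = P ^ k ∧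
      ∀ c : Fin r → B, ∑ i, c i * e i ∈ P ^ (k + 1) → ∀ i, c i ∈ P) : Good V B := by
  suffices key : ∀ k ≤ m, Good V (B ⧸ P ^ k) by
    refine good_equiv (Submodule.quotEquivOfEqBot (P ^ m : Submodule B B) hm).symm (key m le_rfl)
  intro k
  induction k with
  | zero =>
    intro _
    haveI : Subsingleton (B ⧸ P ^ 0) := Ideal.Quotient.subsingleton_iff.2 (by rw [pow_zero, Ideal.one_eq_top])
    exact good_of_subsingleton
  | succ k ih =>
    intro hk
    obtain ⟨r, e, hspan, hrel⟩ := hfree k hk
    let L : (Fin r → B) →ₗ[B] B ⧸ P ^ (k + 1) :=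
      (P ^ (k + 1)).mkQ ∘ₗ Fintype.linearCombination B e
    let π : (Fin r → B) →ₗ[B] (Fin r → B ⧸ P) := LinearMap.pi fun i => (P.mkQ : B →ₗ[B] B ⧸ P) ∘ₗ LinearMap.proj i
    have hπ : Function.Surjective π := fun c => ⟨fun i => (Submodule.mkQ_surjective _ (c i)).choose,
      funext fun i => (Submodule.mkQ_surjective _ (c i)).choose_spec⟩
    have hL : ∀ c, L c = Submodule.Quotient.mk (∑ i, c i * e i) := fun c => by
      simp [L, Fintype.linearCombination_apply, smul_eq_mul]
    have hker : LinearMap.ker L = LinearMap.ker π := by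
      ext c
      rw [LinearMap.mem_ker, LinearMap.mem_ker, hL, Submodule.Quotient.mk_eq_zero]
      refine ⟨fun h => funext fun i => (Submodule.Quotient.mk_eq_zero _).2 (hrel c h i), fun h => ?_⟩
      refine Submodule.sum_mem _ fun i _ => ?_
      rw [pow_succ']
      exact Ideal.mul_mem_mul ((Submodule.Quotient.mk_eq_zero _).1 (congrFun h i))
        (hspan ▸ Ideal.subset_span (Set.mem_range_self i))
    let f : (Fin r → B ⧸ P) →ₗ[B] B ⧸ P ^ (k + 1) :=
      (Submodule.liftQ _ L hker.ge) ∘ₗ (π.quotKerEquivOfSurjective hπ).symm.toLinearMap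
    have hfπ : ∀ c, f (π c) = L c := fun c => by
      simp only [f, LinearMap.comp_apply, LinearEquiv.coe_coe]
      rw [show (π.quotKerEquivOfSurjective hπ).symm (π c) = Submodule.Quotient.mk c from
        (LinearEquiv.symm_apply_eq _).2 rfl]
      rfl
    let g : B ⧸ P ^ (k + 1) →ₗ[B] B ⧸ P ^ k :=
      Submodule.factor (Ideal.pow_le_pow_right (Nat.le_succ k) : P ^ (k + 1) ≤ P ^ k)
    refine good_middle f g ((injective_iff_map_eq_zero _).2 fun x hx => ?_) (Submodule.factor_surjective _) ?_
      (good_pi h r) (ih (Nat.le_of_succ_le hk))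
    · obtain ⟨c, rfl⟩ := hπ x
      rw [hfπ] at hx
      exact LinearMap.mem_ker.1 (hker ▸ LinearMap.mem_ker.2 hx)
    · ext y
      obtain ⟨y, rfl⟩ := Submodule.Quotient.mk_surjective _ y
      show _ ↔ (Submodule.Quotient.mk y : B ⧸ P ^ k) = 0
      rw [Submodule.Quotient.mk_eq_zero]
      constructor
      · rintro ⟨x, hx⟩
        obtain ⟨c, rfl⟩ := hπ x
        rw [hfπ, hL, Submodule.Quotient.eq] at hx
        have h1 : ∑ i, c i * e i ∈ P ^ k :=
          Submodule.sum_mem _ fun i _ => Ideal.mul_mem_left _ _ (hspan ▸ Ideal.subset_span (Set.mem_range_self i))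
        have h2 := Submodule.sub_mem _ h1 (Ideal.pow_le_pow_right (Nat.le_succ k) hx)
        rwa [sub_sub_cancel] at h2
      · intro hy
        rw [← hspan, Ideal.mem_span_range_iff_exists_fun] at hy
        obtain ⟨c, hc⟩ := hy
        exact ⟨π c, by rw [hfπ, hL, hc]⟩

/-- Monomials of degree `k` in a regular sequence form a basis of the graded piece. -/
theorem exists_monomial_basis {A : Type u} [CommRing A] {d : ℕ} (x : Fin d → A) (hx : RegLoc.RegularFromRight x)
    (k : ℕ) : ∃ (r : ℕ) (e : Fin r → A), Ideal.span (Set.range e) = Ideal.span (Set.range x) ^ k ∧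
      ∀ c : Fin r → A, ∑ i, c i * e i ∈ Ideal.span (Set.range x) ^ (k + 1) → ∀ i, c i ∈ Ideal.span (Set.range x) := by
  classical
  let S := (Finset.univ : Finset (Fin d)).finsuppAntidiag k
  let α : Fin S.card → (Fin d →₀ ℕ) := fun i => (S.equivFin.symm i).1
  have hdeg : ∀ i, (α i).degree = k := fun i => by
    have h := (S.equivFin.symm i).2
    rw [Finset.mem_finsuppAntidiag] at h
    rw [Finsupp.degree_eq_sum]
    exact h.1
  refine ⟨S.card, fun i => MvPolynomial.eval x (MvPolynomial.monomial (α i) 1), le_antisymm ?_ ?_, fun c hc i => ?_⟩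
  · rw [Ideal.span_le]
    rintro _ ⟨i, rfl⟩
    exact (Ideal.mem_span_pow_iff_exists_isHomogeneous x _).2
      ⟨_, MvPolynomial.isHomogeneous_monomial _ (hdeg i), rfl⟩
  · intro a ha
    obtain ⟨F, hF, rfl⟩ := (Ideal.mem_span_pow_iff_exists_isHomogeneous x a).1 ha
    rw [F.as_sum, map_sum]
    refine Submodule.sum_mem _ fun m hm => ?_
    have hmS : m ∈ S := by
      rw [Finset.mem_finsuppAntidiag]
      refine ⟨?_, Finset.subset_univ _⟩
      have h1 := hF (MvPolynomial.mem_support_iff.1 hm)
      rw [Finsupp.weight_apply] at h1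
      simpa [Finsupp.sum_fintype] using h1
    rw [show MvPolynomial.monomial m (MvPolynomial.coeff m F) = MvPolynomial.C (MvPolynomial.coeff m F) *
      MvPolynomial.monomial m 1 by rw [MvPolynomial.C_mul_monomial, mul_one], map_mul]
    refine Ideal.mul_mem_left _ _ (Ideal.subset_span ⟨S.equivFin ⟨m, hmS⟩, ?_⟩)
    simp [α]
  · let F : MvPolynomial (Fin d) A := ∑ i, MvPolynomial.monomial (α i) (c i)
    have hF : F.IsHomogeneous k := MvPolynomial.IsHomogeneous.sum _ _ _ fun i _ =>
      MvPolynomial.isHomogeneous_monomial _ (hdeg i)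
    have he : MvPolynomial.eval x F = ∑ i, c i * MvPolynomial.eval x (MvPolynomial.monomial (α i) 1) := by
      rw [map_sum]
      refine Finset.sum_congr rfl fun i _ => ?_
      rw [MvPolynomial.eval_monomial, MvPolynomial.eval_monomial, one_mul]
    have h0 := congrArg (MvPolynomial.coeff (α i))
      (RegLoc.map_eq_zero_of_eval_mem_pow_succ hx hF (he ▸ hc))
    rw [MvPolynomial.coeff_map, MvPolynomial.coeff_zero, Ideal.Quotient.eq_zero_iff_mem] at h0
    have hc' : MvPolynomial.coeff (α i) F = c i := by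
      rw [MvPolynomial.coeff_sum, Finset.sum_eq_single i]
      · simp
      · intro j _ hj
        rw [MvPolynomial.coeff_monomial, if_neg fun h => hj (S.equivFin.symm.injective (Subtype.ext h))]
      · simp
    rwa [hc'] at h0

end GrothLib.PowRestrict7
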