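import Groth.Agent.Lib.PowRestrict7.Good
import Groth.Agent.Lib.GenT7.GenDepth
import Groth.Agent.Lib.FEt21.PunctSections
import Groth.Prelude.Def_EGA4b
import Mathlib.RingTheory.KrullDimension.Regular
import Mathlib.RingTheory.Regular.Flat
import Mathlib.RingTheory.DiscreteValuationRing.TFAE

/-!
# Restriction of functions on the infinitesimal neighbourhoods of a normal regularly embedded subscheme
-/

set_option autoImplicit false
set_option linter.style.haveILetI false
set_option linter.unusedSectionVars false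

universe u

open CategoryTheory AlgebraicGeometry Opposite TopologicalSpace Formal2 GrothLib.ColimSec7 GrothLib.FSecDual7

noncomputable section

namespace GrothLib.PowRestrict7

variable {A : Type u} [CommRing A]

/-- A weakly regular list read from the right. -/
theorem regularFromRight_get (rs : List A) (h : RingTheory.Sequence.IsWeaklyRegular A rs) :
    RegLoc.RegularFromRight (fun i : Fin rs.length => rs[(Fin.rev i).1]'(Fin.rev i).2) := by
  intro i a ha
  have hspan : Ideal.ofList (rs.take (Fin.rev i).1) • (⊤ : Ideal A) =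
      Ideal.span ((fun i : Fin rs.length => rs[(Fin.rev i).1]'(Fin.rev i).2) '' Set.Ioi i) := by
    rw [smul_eq_mul, Ideal.mul_top, Ideal.ofList]
    congr 1
    ext r
    simp only [Set.mem_ofPred_eq, List.mem_take_iff_getElem, Set.mem_image, Set.mem_Ioi]
    constructor
    · rintro ⟨j, hj, rfl⟩
      simp only [lt_min_iff] at hj
      refine ⟨Fin.rev ⟨j, hj.2⟩, ?_, by simp⟩
      rw [← Fin.rev_lt_rev, Fin.rev_rev]
      exact hj.1
    · rintro ⟨k, hk, rfl⟩
      exact ⟨(Fin.rev k).1, lt_min_iff.2 ⟨Fin.rev_lt_rev.2 hk, (Fin.rev k).2⟩, rfl⟩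
  have := h.regular_mod_prev (Fin.rev i).1 (Fin.rev i).2
  rw [hspan] at this
  have h2 := this.right_eq_zero_of_smul (x := Submodule.Quotient.mk a) (by
    rw [← Submodule.Quotient.mk_smul, Submodule.Quotient.mk_eq_zero]; exact ha)
  exact (Submodule.Quotient.mk_eq_zero _).1 h2

variable [IsNoetherianRing A]

/-- Dimension of a local quotient by a regular sequence. -/
theorem dimBetween_add_length (p : Ideal A) [p.IsPrime] (rs : List A) (hrs : RingTheory.Sequence.IsWeaklyRegular A rs)
    (hp : Ideal.ofList rs = p) (x : PrimeSpectrum A) (hx : p ≤ x.asIdeal) :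
    Formal2.dimBetween A p x.asIdeal + (rs.length : WithBot ℕ∞) = ((x.asIdeal.height : ℕ∞) : WithBot ℕ∞) := by
  let T := Localization.AtPrime x.asIdeal
  have hreg := hrs.isRegular_of_isLocalization_of_mem x.asIdeal (S := T) fun r hr =>
    hx (hp ▸ Ideal.subset_span (by simpa using hr))
  have h := ringKrullDim_add_length_eq_ringKrullDim_of_isRegular _ hreg
  rw [List.length_map, ← Ideal.map_ofList, hp, IsLocalization.AtPrime.ringKrullDim_eq_height x.asIdeal T] at h
  exact h

theorem height_eq_length (p : Ideal A) [p.IsPrime] (rs : List A) (hrs : RingTheory.Sequence.IsWeaklyRegular A rs)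
    (hp : Ideal.ofList rs = p) : p.height = rs.length := by
  let x : PrimeSpectrum A := ⟨p, inferInstance⟩
  have h := dimBetween_add_length p rs hrs hp x le_rfl
  have h0 : Formal2.dimBetween A p x.asIdeal = 0 := by
    rw [show p = x.asIdeal from rfl, GenT7.Gen.dimBetween_eq (le_refl x), Order.height_eq_zero.2]
    · rfl
    · exact fun b _ => show x ≤ b.1 from b.2
  rw [h0, zero_add] at h
  exact (WithBot.coe_inj.1 h.symm : (x.asIdeal.height : ℕ∞) = (rs.length : ℕ∞))

/-- Non-regular points of a normal domain have codimension at least two. -/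
theorem two_le_height [IsDomain A] [IsIntegrallyClosed A] (x : PrimeSpectrum A) (hx : x ∉ EGA4.regLocus A) :
    (2 : ℕ∞) ≤ x.asIdeal.height := by
  by_contra hlt
  let T := Localization.AtPrime x.asIdeal
  haveI : IsDomain T := IsLocalization.isDomain_localization x.asIdeal.primeCompl_le_nonZeroDivisors
  haveI : IsNoetherianRing T := IsLocalization.isNoetherianRing x.asIdeal.primeCompl _ inferInstance
  haveI : IsIntegrallyClosed T :=
    isIntegrallyClosed_of_isLocalization T x.asIdeal.primeCompl x.asIdeal.primeCompl_le_nonZeroDivisors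
  have h1 : x.asIdeal.height ≤ 1 := by
    rw [not_le] at hlt
    exact Order.le_of_lt_succ (by simpa [Order.succ_eq_add_one, one_add_one_eq_two] using hlt)
  have hP : ∀ P : Ideal T, P ≠ ⊥ → P.IsPrime → P = IsLocalRing.maximalIdeal T := fun P hP hP' => by
    by_contra hne
    have h2 : P < IsLocalRing.maximalIdeal T := lt_of_le_of_ne (IsLocalRing.le_maximalIdeal hP'.ne_top) hne
    have h3 := Ideal.height_add_one_le_of_lt_of_isPrime h2
    have h4 : (1 : ℕ∞) ≤ P.height := by
      refine le_trans ?_ (Ideal.height_add_one_le_of_lt_of_isPrime (bot_lt_iff_ne_bot.2 hP))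
      exact le_add_self
    have h5 : (IsLocalRing.maximalIdeal T).height = x.asIdeal.height := by
      refine WithBot.coe_inj.1 ?_
      rw [IsLocalRing.maximalIdeal_height_eq_ringKrullDim,
        IsLocalization.AtPrime.ringKrullDim_eq_height x.asIdeal T]
    rw [h5] at h3
    exact absurd ((add_le_add h4 le_rfl).trans (h3.trans h1)) (by decide)
  haveI : IsPrincipalIdealRing T :=
    ((tfae_of_isNoetherianRing_of_isLocalRing_of_isDomain T).out 3 0 :
      (IsIntegrallyClosed T ∧ ∀ P : Ideal T, P ≠ ⊥ → P.IsPrime → P = IsLocalRing.maximalIdeal T) ↔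
        IsPrincipalIdealRing T).1 ⟨inferInstance, hP⟩
  exact hx (inferInstanceAs (IsRegularLocalRing T))

/-- **The restriction map is bijective.** -/
theorem bijective_restrict [IsDomain A] [IsIntegrallyClosed A] (J : Ideal A)
    (hJ : ∀ x : PrimeSpectrum A, J ≤ x.asIdeal ↔ x ∉ EGA4.regLocus A)
    (p : Ideal A) [p.IsPrime] (rs : List A) (hrs : RingTheory.Sequence.IsRegular A rs)
    (hp : Ideal.ofList rs = p) (hnorm : IsIntegrallyClosed (A ⧸ p))
    (hht : p.height + J.height ≤ (p ⊔ J).height)
    (U : (Spec (CommRingCat.of A)).Opens)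
    (hUreg : ∀ x : PrimeSpectrum A, p ≤ x.asIdeal → x ∈ EGA4.regLocus A → x ∈ U.1)
    (m : ℕ) (hm : 1 ≤ m) :
    Good (B := A ⧸ p ^ m) (Spec.map (CommRingCat.ofHom (Ideal.Quotient.mk (p ^ m))) ⁻¹ᵁ U) (A ⧸ p ^ m) := by
  let π := Ideal.Quotient.mk (p ^ m)
  let P : Ideal (A ⧸ p ^ m) := p.map π
  have hPm : P ^ m = ⊥ := by rw [← Ideal.map_pow, Ideal.map_quotient_self]
  have hkm : ∀ {k : ℕ}, k ≤ m → (P ^ k).comap π = p ^ k := fun {k} hk => by
    rw [← Ideal.map_pow, Ideal.comap_map_of_surjective' _ Ideal.Quotient.mk_surjective, Ideal.mk_ker,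
      sup_eq_left]
    exact Ideal.pow_le_pow_right hk
  -- the graded pieces
  let xs : Fin rs.length → A := fun i => rs[(Fin.rev i).1]'(Fin.rev i).2
  have hxs : Ideal.span (Set.range xs) = p := by
    rw [← hp, Ideal.ofList]
    congr 1
    ext r
    simp only [Set.mem_range, Set.mem_ofPred_eq, List.mem_iff_getElem, xs]
    exact ⟨fun ⟨i, hi⟩ => ⟨_, (Fin.rev i).2, hi⟩, fun ⟨j, hj, h⟩ => ⟨Fin.rev ⟨j, hj⟩, by simp [h]⟩⟩
  refine good_of_graded P m hPm (good_of_depth fun q hq hs => ?_) fun k hk => ?_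
  swap
  · obtain ⟨r, e, he, hrel⟩ := exists_monomial_basis xs (regularFromRight_get rs hrs.toIsWeaklyRegular) k
    rw [hxs] at he hrel
    refine ⟨r, fun i => π (e i), ?_, fun c hc i => ?_⟩
    · rw [← Ideal.map_pow, ← he, Ideal.map_span, ← Set.range_comp]
      rfl
    · choose c' hc' using fun i => Ideal.Quotient.mk_surjective (I := p ^ m) (c i)
      rw [← hc' i]
      refine Ideal.mem_map_of_mem π (hrel c' ?_ i)
      rw [← hkm (show k + 1 ≤ m from hk), Ideal.mem_comap, map_sum]
      simpa only [map_mul, π, hc'] using hc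
  -- the point in `Spec A`
  have hPq : P ≤ q.asIdeal := by
    refine le_trans ?_ (Module.annihilator_le_of_mem_support hs)
    rw [Ideal.annihilator_quotient]
  let x : PrimeSpectrum A := PrimeSpectrum.comap π q
  have hpx : p ≤ x.asIdeal := Ideal.map_le_iff_le_comap.1 hPq
  have hxU : x ∉ U := hq
  have hJx : J ≤ x.asIdeal := (hJ x).2 fun h => hxU (hUreg x hpx h)
  have hJ2 : (2 : ℕ∞) ≤ J.height := by
    rw [Ideal.height_eq_inf_minimalPrimes]
    refine le_iInf₂ fun P₀ hP₀ => ?_
    haveI := hP₀.isPrime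
    exact two_le_height ⟨P₀, inferInstance⟩ ((hJ _).1 hP₀.1.2)
  have hht2 : (rs.length : ℕ∞) + 2 ≤ x.asIdeal.height := by
    rw [← height_eq_length p rs hrs.toIsWeaklyRegular hp]
    exact (add_le_add le_rfl hJ2).trans (hht.trans (Ideal.height_mono (sup_le hpx hJx)))
  let p₀ : PrimeSpectrum A := ⟨p, inferInstance⟩
  haveI := Ideal.map_isPrime_of_surjective (f := Ideal.Quotient.mk p) Ideal.Quotient.mk_surjective
    (show RingHom.ker (Ideal.Quotient.mk p) ≤ x.asIdeal by rw [Ideal.mk_ker]; exact hpx)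
  let y : PrimeSpectrum (A ⧸ p) := ⟨x.asIdeal.map (Ideal.Quotient.mk p), inferInstance⟩
  let C := Localization.AtPrime y.asIdeal
  haveI : IsDomain C := IsLocalization.isDomain_localization y.asIdeal.primeCompl_le_nonZeroDivisors
  haveI : IsNoetherianRing C := IsLocalization.isNoetherianRing y.asIdeal.primeCompl _ inferInstance
  haveI : IsIntegrallyClosed C :=
    isIntegrallyClosed_of_isLocalization C y.asIdeal.primeCompl y.asIdeal.primeCompl_le_nonZeroDivisors
  have hdim : (2 : WithBot ℕ∞) ≤ ringKrullDim C := by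
    have h := dimBetween_add_length p rs hrs.toIsWeaklyRegular hp x hpx
    rw [show Formal2.dimBetween A p x.asIdeal = ((y.asIdeal.height : ℕ∞) : WithBot ℕ∞) from
      (GenT7.Gen.dimBetween_eq (p := p₀) (q := x) hpx).trans
        (congrArg (fun z : ℕ∞ => (z : WithBot ℕ∞)) (GrothLib.GenT7.height_map_eq p₀ x hpx).symm)] at h
    rw [IsLocalization.AtPrime.ringKrullDim_eq_height y.asIdeal C]
    refine WithBot.coe_le_coe.2 ?_
    have h' : y.asIdeal.height + (rs.length : ℕ∞) = x.asIdeal.height := WithBot.coe_inj.1 h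
    rw [← h', add_comm _ (2 : ℕ∞)] at hht2
    exact (ENat.add_le_add_iff_right (ENat.natCast_ne_top _)).1 hht2
  have hd := FEt21.two_le_depth_of_normal C hdim
  rw [← Depth.depth_localization_self] at hd
  -- transport
  let σ : (A ⧸ p ^ m) →+* A ⧸ p := Ideal.Quotient.factor (Ideal.pow_le_self (by omega : m ≠ 0))
  letI : Algebra (A ⧸ p ^ m) (A ⧸ p) := σ.toAlgebra
  haveI : Module.Finite (A ⧸ p ^ m) (A ⧸ p) := Module.Finite.of_surjective (Algebra.linearMap _ _)
    (Ideal.Quotient.factor_surjective (Ideal.pow_le_self (by omega : m ≠ 0)))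
  have hcomap : y.asIdeal.comap σ = q.asIdeal := by
    refine Ideal.comap_injective_of_surjective π Ideal.Quotient.mk_surjective ?_
    rw [Ideal.comap_comap, Ideal.Quotient.factor_comp_mk]
    show (x.asIdeal.map (Ideal.Quotient.mk p)).comap (Ideal.Quotient.mk p) = x.asIdeal
    rw [Ideal.comap_map_of_surjective' _ Ideal.Quotient.mk_surjective, Ideal.mk_ker, sup_eq_left]
    exact hpx
  have hP : ∀ z, z ∈ P ↔ σ z = 0 := fun z => by
    obtain ⟨a, rfl⟩ := Ideal.Quotient.mk_surjective z
    rw [Ideal.Quotient.factor_mk, Ideal.Quotient.eq_zero_iff_mem]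
    have h1 : P.comap π = p := by
      have := hkm (show 1 ≤ m from hm)
      rwa [pow_one, pow_one] at this
    exact (SetLike.ext_iff.1 h1 a)
  let g : ((A ⧸ p ^ m) ⧸ P) →ₗ[A ⧸ p ^ m] A ⧸ p :=
    Submodule.liftQ P (Algebra.linearMap _ _) fun z hz => (hP z).1 hz
  rw [Faltings.depth_localization_comap (R' := A ⧸ p) (M' := A ⧸ p) q.asIdeal y.asIdeal hcomap g
      (fun z => by
        obtain ⟨r, rfl⟩ := Ideal.Quotient.factor_surjective (Ideal.pow_le_self (by omega : m ≠ 0)) z
        exact ⟨1, r, q.asIdeal.one_notMem, one_smul _ _⟩)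
      (fun z => by
        obtain ⟨r, rfl⟩ := Ideal.Quotient.factor_surjective (Ideal.pow_le_self (by omega : m ≠ 0)) z
        exact ⟨1, Submodule.Quotient.mk r, q.asIdeal.one_notMem, one_smul _ _⟩)
      (fun z hz => by
        obtain ⟨r, rfl⟩ := Submodule.Quotient.mk_surjective _ z
        exact ⟨1, q.asIdeal.one_notMem, by rw [one_smul, Submodule.Quotient.mk_eq_zero]; exact (hP r).2 hz⟩)]
  exact hd

end GrothLib.PowRestrict7
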